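import Cfsg.Agent.H573.DefChar
import Cfsg.Agent.KFacts.RgdLieCharP
import Cfsg.Agent.S1155

/-!
# Simple groups of Lie type in defining characteristic (helper573)

`comm_of_lie` : a simple group of Lie type of characteristic `p ≠ 2`, all of whose `p`-elements are `p`-central, has
abelian Sylow `p`-subgroups.
-/

set_option autoImplicit false

namespace Cfsg.Agent.H573

open Cfsg.Agent.KFacts.RgdLieCharP Cfsg.Agent.KFacts.RgdFilt

/-- Sylow subgroups which are TI. -/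
theorem comm_of_ti {G : Type*} [Group G] [Finite G] {p : ℕ} [Fact p.Prime]
    (hti : ∀ P Q : Sylow p G, P ≠ Q → (P : Subgroup G) ⊓ (Q : Subgroup G) = ⊥) (hc : PCent p G) (P : Sylow p G) :
    IsMulCommutative P := by
  refine ⟨⟨fun a b => Subtype.ext ?_⟩⟩
  change (a : G) * b = b * a
  by_cases ha : (a : G) = 1
  · rw [ha, one_mul, mul_one]
  have hxp : ∃ k : ℕ, orderOf (a : G) = p ^ k := by
    obtain ⟨k, hk⟩ := P.2 a
    obtain ⟨c, -, hb⟩ := (Nat.dvd_prime_pow Fact.out).1 (orderOf_dvd_of_pow_eq_one hk)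
    exact ⟨c, by rw [← hb]; exact Subgroup.orderOf_coe a⟩
  obtain ⟨Q, hQ⟩ := hc.exists_sylow hxp
  have haQ : (a : G) ∈ Q := mem_sylow_of_commute Q hxp hQ
  have hPQ : P = Q := by
    by_contra hne
    have h1 : (a : G) ∈ (P : Subgroup G) ⊓ (Q : Subgroup G) := ⟨a.2, haQ⟩
    rw [hti P Q hne, Subgroup.mem_bot] at h1
    exact ha h1
  subst hPQ
  exact (hQ b b.2).symm

theorem comm_of_hasFilt {G : Type*} [Group G] [Finite G] [IsSimpleGroup G] {p : ℕ} [Fact p.Prime]
    (hna : ∃ a b : G, a * b ≠ b * a) (h : HasFilt p G) (hc : PCent p G) (P : Sylow p G) : IsMulCommutative P := by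
  obtain ⟨l, M, A, hA, T, n, X, R, hW, -, hGG, hN, hconn, hX, -⟩ := h.data hna
  exact DefChar.comm_of_pcent R hGG (Nodes.RGDLib.rgd_gen_of_G1 R hX) hN hconn hc P

theorem pcent_equiv {G H : Type*} [Group G] [Group H] [Finite G] (e : G ≃* H) {p : ℕ} [Fact p.Prime]
    (hc : PCent p G) : PCent p H := by
  have : Finite H := Finite.of_equiv G e.toEquiv
  refine PCent.of_sylow fun x hx => ?_
  obtain ⟨k, hk⟩ := hx
  obtain ⟨P, hP⟩ := hc.exists_sylow (x := e.symm x) ⟨k, by rw [← hk]; exact orderOf_injective e.symm.toMonoidHom e.symm.injective x⟩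
  refine ⟨P.mapSurjective (f := e.toMonoidHom) e.surjective, ?_⟩
  rintro _ ⟨y, hy, rfl⟩
  have := congrArg e (hP y hy)
  simpa using this

theorem comm_equiv {G H : Type*} [Group G] [Group H] [Finite G] (e : G ≃* H) {p : ℕ} [Fact p.Prime]
    (h : ∀ P : Sylow p G, IsMulCommutative P) (Q : Sylow p H) : IsMulCommutative Q := by
  have : Finite H := Finite.of_equiv G e.toEquiv
  let P := Q.mapSurjective (f := e.symm.toMonoidHom) e.symm.surjective
  have hP := h P
  refine ⟨⟨fun a b => Subtype.ext ?_⟩⟩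
  have ha : e.symm a ∈ P := ⟨a, a.2, rfl⟩
  have hb : e.symm b ∈ P := ⟨b, b.2, rfl⟩
  have h1 := congrArg (fun x : P => e (x : G)) (hP.is_comm.comm ⟨e.symm a, ha⟩ ⟨e.symm b, hb⟩)
  simpa using h1

theorem comm_of_lie {G : Type*} [Group G] [Finite G] [IsSimpleGroup G] {p : ℕ} [Fact p.Prime] (hp2 : p ≠ 2)
    (hna : ¬ IsMulCommutative G) (h : IsLieTypeChar p G) (hc : PCent p G) (P : Sylow p G) : IsMulCommutative P := by
  have hna' : ∃ a b : G, a * b ≠ b * a := by
    by_contra hcon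
    push Not at hcon
    exact hna ⟨⟨hcon⟩⟩
  rcases h with h | h | h | h | h | h | h | h | ⟨h, -⟩ | ⟨h, -⟩ | ⟨h, h'⟩
  · exact comm_of_hasFilt hna' (hasFilt_of_lie (Or.inl h)) hc P
  · exact comm_of_hasFilt hna' (hasFilt_of_lie (Or.inr (Or.inl h))) hc P
  · exact comm_of_hasFilt hna' (hasFilt_of_lie (Or.inr (Or.inr (Or.inl h)))) hc P
  · exact comm_of_hasFilt hna' (hasFilt_of_lie (Or.inr (Or.inr (Or.inr (Or.inl h))))) hc P
  · exact comm_of_hasFilt hna' (hasFilt_of_lie (Or.inr (Or.inr (Or.inr (Or.inr (Or.inl h)))))) hc P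
  · exact comm_of_hasFilt hna' (hasFilt_of_lie (Or.inr (Or.inr (Or.inr (Or.inr (Or.inr (Or.inl h))))))) hc P
  · exact comm_of_hasFilt hna' (hasFilt_of_lie (Or.inr (Or.inr (Or.inr (Or.inr (Or.inr (Or.inr (Or.inl h)))))))) hc P
  · exact comm_of_hasFilt hna' (hasFilt_of_lie (Or.inr (Or.inr (Or.inr (Or.inr (Or.inr (Or.inr (Or.inr h)))))))) hc P
  · exact absurd h hp2
  · exact absurd h hp2
  · subst h
    obtain ⟨K, _, _, m, hm, hK, ⟨e⟩⟩ := h'
    have : Finite ↥(Cfsg.Lie.twistedG2 K (3 ^ m)) := Finite.of_equiv G e.toEquiv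
    exact comm_equiv e.symm (fun Q => comm_of_ti (fun P Q hPQ => Cfsg.Agent.S1155.result hm hK P Q hPQ) (pcent_equiv e hc) Q) P

end Cfsg.Agent.H573
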