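import Mathlib

/-!
# Groups all of whose `p`-elements are `p`-central (helper573)

`PCent p G` says that every element of `p`-power order of `G` has class size prime to `p`.  The property goes to
normal subgroups and quotients, and if `N` is normal, `G` has the property and `N`, `G ⧸ N` have abelian Sylow
`p`-subgroups, then so has `G`.
-/

set_option autoImplicit false

namespace Cfsg.Agent.H573

open Subgroup MulAction

/-- every element of `p`-power order has class size prime to `p` -/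
def PCent (p : ℕ) (G : Type*) [Group G] : Prop :=
  ∀ x : G, (∃ k : ℕ, orderOf x = p ^ k) → ¬ p ∣ (Subgroup.centralizer ({x} : Set G)).index

section
variable {G : Type*} [Group G] [Finite G] {p : ℕ} [Fact p.Prime]

/-- A subgroup of index prime to `p` contains a Sylow `p`-subgroup. -/
theorem exists_sylow_le_of_index (C : Subgroup G) (hC : ¬ p ∣ C.index) :
    ∃ P : Sylow p G, (P : Subgroup G) ≤ C := by
  let Q₀ : Sylow p C := default
  let Q : Subgroup G := Q₀.1.map C.subtype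
  have hpQ : IsPGroup p Q := Q₀.2.map C.subtype
  have hQ : ¬ p ∣ Q.index := by
    rw [Subgroup.index_map_subtype Q₀.1]
    exact Nat.Prime.not_dvd_mul Fact.out Q₀.not_dvd_index hC
  exact ⟨hpQ.toSylow hQ, Subgroup.map_subtype_le Q₀.1⟩

/-- A subgroup containing a Sylow `p`-subgroup has index prime to `p`. -/
theorem not_dvd_index_of_sylow_le {C : Subgroup G} (P : Sylow p G) (h : (P : Subgroup G) ≤ C) :
    ¬ p ∣ C.index := fun hd => P.not_dvd_index (hd.trans (Subgroup.index_dvd_of_le h))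

/-- the Sylow form of `PCent` -/
theorem PCent.exists_sylow (h : PCent p G) {x : G} (hx : ∃ k : ℕ, orderOf x = p ^ k) :
    ∃ P : Sylow p G, ∀ y ∈ P, y * x = x * y := by
  obtain ⟨P, hP⟩ := exists_sylow_le_of_index _ (h x hx)
  refine ⟨P, fun y hy => ?_⟩
  exact (Subgroup.mem_centralizer_singleton_iff.1 (hP hy)).symm ▸ rfl

theorem PCent.of_sylow (h : ∀ x : G, (∃ k : ℕ, orderOf x = p ^ k) → ∃ P : Sylow p G, ∀ y ∈ P, y * x = x * y) :
    PCent p G := by
  intro x hx
  obtain ⟨P, hP⟩ := h x hx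
  refine not_dvd_index_of_sylow_le P (fun y hy => ?_)
  rw [Subgroup.mem_centralizer_singleton_iff]
  exact (hP y hy)

omit [Finite G] [Fact (Nat.Prime p)] in
theorem mem_sylow_of_commute (P : Sylow p G) {x : G} (hx : ∃ k : ℕ, orderOf x = p ^ k)
    (h : ∀ y ∈ P, y * x = x * y) : x ∈ P := by
  have hp : IsPGroup p (zpowers x) := by
    obtain ⟨k, hk⟩ := hx
    exact IsPGroup.of_card (n := k) (by rw [Nat.card_zpowers, hk])
  have hn : zpowers x ≤ normalizer (P : Set G) := by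
    rw [zpowers_le]
    rw [Subgroup.mem_set_normalizer_iff]
    intro y
    constructor
    · intro hy
      have hy' : y ∈ P := hy
      rw [← h y hy', mul_inv_cancel_right]; exact hy
    · intro hy
      have h1 := h _ hy
      have : y = x * y * x⁻¹ := by
        have h2 : x * y * x⁻¹ * x = x * (x * y * x⁻¹) := h1
        rw [inv_mul_cancel_right] at h2
        exact mul_left_cancel h2
      rw [this]; exact hy
  have := hp.inf_normalizer_sylow P
  have h3 : x ∈ zpowers x ⊓ normalizer (P : Set G) := ⟨mem_zpowers x, hn (mem_zpowers x)⟩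
  rw [this] at h3
  exact h3.2

omit [Finite G] [Fact (Nat.Prime p)] in
theorem ppow_conj {x : G} (g : G) (hx : ∃ k : ℕ, orderOf x = p ^ k) :
    ∃ k : ℕ, orderOf (g⁻¹ * x * g) = p ^ k := by
  obtain ⟨k, hk⟩ := hx
  refine ⟨k, ?_⟩
  rw [← hk]
  have := orderOf_injective (MulAut.conj g⁻¹).toMonoidHom (MulAut.conj g⁻¹).injective x
  simpa [MulAut.conj_apply] using this

/-- every `p`-element is conjugate into the centre of a given Sylow subgroup -/
theorem PCent.conj_center (h : PCent p G) (P : Sylow p G) {x : G} (hx : ∃ k : ℕ, orderOf x = p ^ k) :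
    ∃ g : G, g⁻¹ * x * g ∈ P ∧ ∀ y ∈ P, y * (g⁻¹ * x * g) = (g⁻¹ * x * g) * y := by
  obtain ⟨Q, hQ⟩ := h.exists_sylow hx
  obtain ⟨g, hg⟩ := exists_smul_eq G P Q
  have h2 : ∀ y ∈ P, y * (g⁻¹ * x * g) = (g⁻¹ * x * g) * y := by
    intro y hy
    have h3 : g * y * g⁻¹ ∈ Q := by
      rw [← hg]
      exact Subgroup.smul_mem_pointwise_smul y (MulAut.conj g) _ hy
    have h4 := hQ _ h3
    have h5 : g⁻¹ * (g * y * g⁻¹ * x) * g = g⁻¹ * (x * (g * y * g⁻¹)) * g := by rw [h4]
    simpa [mul_assoc] using h5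
  exact ⟨g, mem_sylow_of_commute P (ppow_conj g hx) h2, h2⟩

/-- The index of `P ∩ N` in the normal subgroup `N` is prime to `p` for `P` a Sylow `p`-subgroup. -/
theorem not_dvd_relIndex_normal (P : Sylow p G) (N : Subgroup G) [N.Normal] :
    ¬ p ∣ (P : Subgroup G).relIndex N := by
  have h1 := Subgroup.relIndex_mul_relIndex ((P : Subgroup G) ⊓ N) N ((P : Subgroup G) ⊔ N)
    inf_le_right le_sup_right
  have h2 := Subgroup.relIndex_mul_relIndex ((P : Subgroup G) ⊓ N) P ((P : Subgroup G) ⊔ N)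
    inf_le_left le_sup_left
  rw [Subgroup.inf_relIndex_left, ← Subgroup.relIndex_sup_right (H := (P : Subgroup G)) (K := N),
    ← h1, Subgroup.inf_relIndex_right, mul_comm] at h2
  have h3 : (N.relIndex ((P : Subgroup G) ⊔ N)) ≠ 0 := Subgroup.index_ne_zero_of_finite
  have h4 := Nat.eq_of_mul_eq_mul_right (Nat.pos_of_ne_zero h3) h2
  rw [← h4]
  intro h5
  exact P.not_dvd_index (h5.trans (Subgroup.relIndex_dvd_index_of_le le_sup_left))

theorem pcent_normal (h : PCent p G) (N : Subgroup G) [N.Normal] : PCent p N := by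
  intro x hx hd
  have hx' : ∃ k : ℕ, orderOf (x : G) = p ^ k := by
    obtain ⟨k, hk⟩ := hx
    exact ⟨k, by rw [Subgroup.orderOf_coe, hk]⟩
  obtain ⟨P, hP⟩ := exists_sylow_le_of_index _ (h (x : G) hx')
  have h2 : ((P : Subgroup G).subgroupOf N) ≤ Subgroup.centralizer ({x} : Set N) := by
    intro y hy
    rw [Subgroup.mem_centralizer_singleton_iff]
    have := hP (Subgroup.mem_subgroupOf.1 hy)
    rw [Subgroup.mem_centralizer_singleton_iff] at this
    exact Subtype.ext this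
  exact not_dvd_relIndex_normal P N (hd.trans (Subgroup.index_dvd_of_le h2))

/-- a `p`-element of a quotient is the image of a `p`-element -/
theorem exists_lift (N : Subgroup G) [N.Normal] (x : G ⧸ N) (hx : ∃ k : ℕ, orderOf x = p ^ k) :
    ∃ y : G, (∃ k : ℕ, orderOf y = p ^ k) ∧ QuotientGroup.mk' N y = x := by
  have hp : p.Prime := Fact.out
  obtain ⟨k, hk⟩ := hx
  obtain ⟨g, rfl⟩ := QuotientGroup.mk'_surjective N x
  obtain ⟨a, m, hm, hn⟩ := Nat.exists_eq_pow_mul_and_not_dvd (orderOf_pos g).ne' p hp.ne_one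
  -- choose `t` with `t ≡ 1 mod p^k`, `m ∣ t`
  have hcop : Nat.Coprime (p ^ (a + k)) m := Nat.Coprime.pow_left _ ((Nat.Prime.coprime_iff_not_dvd hp).2 hm)
  obtain ⟨t, ht1, ht2⟩ := Nat.chineseRemainder hcop 1 0
  refine ⟨g ^ t, ?_, ?_⟩
  · have hmt : m ∣ t := (Nat.modEq_zero_iff_dvd).1 ht2
    have h1 : orderOf (g ^ t) ∣ p ^ a := by
      rw [orderOf_dvd_iff_pow_eq_one, ← pow_mul, ← orderOf_dvd_iff_pow_eq_one, hn, mul_comm]
      exact Nat.mul_dvd_mul hmt dvd_rfl
    obtain ⟨b, -, hb⟩ := (Nat.dvd_prime_pow hp).1 h1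
    exact ⟨b, hb⟩
  · rw [map_pow]
    have h2 : t ≡ 1 [MOD orderOf (QuotientGroup.mk' N g)] := by
      rw [hk]
      exact ht1.of_dvd (pow_dvd_pow p (Nat.le_add_left k a))
    have h3 := (pow_eq_pow_iff_modEq (x := QuotientGroup.mk' N g)).2 h2
    rw [h3, pow_one]

theorem pcent_quotient (h : PCent p G) (N : Subgroup G) [N.Normal] : PCent p (G ⧸ N) := by
  intro x hx hd
  obtain ⟨y, hy, rfl⟩ := exists_lift N x hx
  refine h y hy ?_
  have h1 : (Subgroup.centralizer ({y} : Set G)).map (QuotientGroup.mk' N) ≤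
      Subgroup.centralizer ({QuotientGroup.mk' N y} : Set (G ⧸ N)) := by
    rintro _ ⟨z, hz, rfl⟩
    rw [Subgroup.mem_centralizer_singleton_iff]
    have hz' : z ∈ Subgroup.centralizer ({y} : Set G) := hz
    rw [Subgroup.mem_centralizer_singleton_iff] at hz'
    rw [← map_mul, ← map_mul, hz']
  exact (hd.trans (Subgroup.index_dvd_of_le h1)).trans
    (Subgroup.index_map_dvd _ (QuotientGroup.mk'_surjective N))

/-- If `N` and `G ⧸ N` have abelian Sylow `p`-subgroups and all `p`-elements of `G` are `p`-central, then `G` has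
abelian Sylow `p`-subgroups. -/
theorem abelian_of_normal (h : PCent p G) (N : Subgroup G) [N.Normal]
    (hN : ∀ P : Sylow p N, IsMulCommutative P) (hQ : ∀ P : Sylow p (G ⧸ N), IsMulCommutative P)
    (P : Sylow p G) : IsMulCommutative P := by
  have key : ∀ x ∈ P, ∃ z ∈ P, (∀ y ∈ P, y * z = z * y) ∧ ∃ c ∈ (P : Subgroup G) ⊓ N, x = z * c := by
    intro x hx
    have hxp : ∃ k : ℕ, orderOf x = p ^ k := by
      obtain ⟨k, hk⟩ := P.2 ⟨x, hx⟩
      obtain ⟨b, -, hb⟩ := (Nat.dvd_prime_pow Fact.out).1 (orderOf_dvd_of_pow_eq_one hk)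
      refine ⟨b, ?_⟩
      rw [← hb, Subgroup.orderOf_mk]
    obtain ⟨g, hg1, hg2⟩ := h.conj_center P hxp
    set π := QuotientGroup.mk' N with hπ
    have hs : Function.Surjective π := QuotientGroup.mk'_surjective N
    let Pb : Sylow p (G ⧸ N) := P.mapSurjective hs
    have : IsMulCommutative Pb := hQ Pb
    have hmem : ∀ y ∈ P, π y ∈ Pb := fun y hy => ⟨y, hy, rfl⟩
    obtain ⟨n, hn, hn2⟩ := Pb.conj_eq_normalizer_conj_of_mem (π x) (π g) (hmem x hx)
      (by rw [← map_inv, ← map_mul, ← map_mul]; exact hmem _ hg1)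
    obtain ⟨m, rfl⟩ := hs n
    -- replace `m` by an element of `N_G(P)`
    obtain ⟨v, hv, hv2⟩ : ∃ v ∈ N, (v * m⁻¹) ∈ normalizer ((P : Subgroup G) : Set G) := by
      -- all inside `P N`
      set M : Subgroup G := (Pb : Subgroup (G ⧸ N)).comap π with hM
      have hPM : (P : Subgroup G) ≤ M := fun y hy => hmem y hy
      have hmP : ((m⁻¹ • P : Sylow p G) : Subgroup G) ≤ M := by
        intro y hy
        rw [hM, Subgroup.mem_comap]
        have hy1 : y ∈ m⁻¹ • P := hy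
        rw [Sylow.smul_def] at hy1
        obtain ⟨w, hw, rfl⟩ := hy1
        have hw2 : π w ∈ Pb := hmem _ hw
        have h9 := (Subgroup.mem_set_normalizer_iff''.1 hn) (π w)
        have h10 := h9.1 hw2
        change π (m⁻¹ * w * m⁻¹⁻¹) ∈ Pb
        rw [inv_inv, map_mul, map_mul, map_inv]
        exact h10
      obtain ⟨u, hu⟩ := exists_smul_eq M ((m⁻¹ • P : Sylow p G).subtype hmP) (P.subtype hPM)
      have hu2 : (u : G) • (m⁻¹ • P : Sylow p G) = P := by
        simp_rw [Sylow.smul_subtype, Subgroup.smul_def] at hu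
        exact Sylow.subtype_injective hu
      -- `u = s * v`, `s ∈ P`, `v ∈ N`
      obtain ⟨s, hs1, v, hv, hsv⟩ : ∃ s ∈ P, ∃ v ∈ N, (u : G) = s * v := by
        have : π (u : G) ∈ (P : Subgroup G).map π := u.2
        obtain ⟨s, hs1, hs2⟩ := this
        refine ⟨s, hs1, s⁻¹ * u, ?_, by simp⟩
        exact QuotientGroup.eq.1 hs2
      have h5 : (v * m⁻¹) • P = P := by
        rw [smul_smul, hsv, mul_assoc, mul_smul] at hu2
        have h6 : s⁻¹ • P = P := Sylow.smul_eq_iff_mem_normalizer.2 (le_normalizer (inv_mem hs1))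
        calc (v * m⁻¹) • P = s⁻¹ • (s • ((v * m⁻¹) • P)) := by rw [inv_smul_smul]
          _ = s⁻¹ • P := by rw [hu2]
          _ = P := h6
      exact ⟨v, hv, Sylow.smul_eq_iff_mem_normalizer.1 h5⟩
    -- `w = v m⁻¹` normalises `P`, and `w x w⁻¹` is `g⁻¹ x g` modulo `N`
    set w := v * m⁻¹ with hw
    have hwP : ∀ y, y ∈ P ↔ w * y * w⁻¹ ∈ P := fun y => Subgroup.mem_set_normalizer_iff.1 hv2 y
    have h7 : π (w * x * w⁻¹) = π (g⁻¹ * x * g) := by
      have h8 : π v = 1 := (QuotientGroup.eq_one_iff v).2 hv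
      have h9 : π w = (π m)⁻¹ := by rw [hw, map_mul, h8, one_mul, map_inv]
      rw [map_mul, map_mul, map_inv, h9, inv_inv, ← hn2, map_mul, map_mul, map_inv]
    set z := g⁻¹ * x * g with hz
    have h8 : z⁻¹ * (w * x * w⁻¹) ∈ N := QuotientGroup.eq.1 h7.symm
    have hzc : ∀ y ∈ P, y * (w⁻¹ * z * w) = (w⁻¹ * z * w) * y := by
      intro y hy
      have h10 := hg2 _ ((hwP y).1 hy)
      have h11 : w⁻¹ * (w * y * w⁻¹ * z) * w = w⁻¹ * (z * (w * y * w⁻¹)) * w := by rw [h10]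
      simpa [mul_assoc] using h11
    refine ⟨w⁻¹ * z * w, ?_, hzc, w⁻¹ * (z⁻¹ * (w * x * w⁻¹)) * w, ⟨?_, ?_⟩, ?_⟩
    · rw [hwP]; simpa [mul_assoc] using hg1
    · have : z⁻¹ * (w * x * w⁻¹) ∈ P := mul_mem (inv_mem hg1) ((hwP x).1 hx)
      change w⁻¹ * (z⁻¹ * (w * x * w⁻¹)) * w ∈ P
      rw [hwP]; simpa [mul_assoc] using this
    · have := ‹N.Normal›.conj_mem _ h8 w⁻¹
      simpa using this
    · group
  have hPN : ∀ c ∈ (P : Subgroup G) ⊓ N, ∀ d ∈ (P : Subgroup G) ⊓ N, c * d = d * c := by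
    let Q : Sylow p N := (P.2.comap_subtype (K := N)).toSylow (not_dvd_relIndex_normal P N)
    have := hN Q
    intro c hc d hd
    have h1 := this.is_comm.comm (⟨⟨c, hc.2⟩, hc.1⟩ : Q) ⟨⟨d, hd.2⟩, hd.1⟩
    exact congrArg (fun a : Q => ((a : N) : G)) h1
  refine ⟨⟨fun a b => ?_⟩⟩
  obtain ⟨z₁, hz₁, hc₁, c₁, hd₁, h₁⟩ := key a a.2
  obtain ⟨z₂, hz₂, hc₂, c₂, hd₂, h₂⟩ := key b b.2
  apply Subtype.ext
  change (a : G) * b = b * a
  rw [h₁, h₂]
  have e1 := hc₁ c₂ hd₂.1
  have e2 := hc₂ c₁ hd₁.1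
  have e3 := hPN c₁ hd₁ c₂ hd₂
  have e4 := hc₁ z₂ hz₂
  calc z₁ * c₁ * (z₂ * c₂) = z₁ * (c₁ * z₂) * c₂ := by group
    _ = z₁ * z₂ * (c₁ * c₂) := by rw [e2]; group
    _ = z₂ * z₁ * (c₂ * c₁) := by rw [e3, e4]
    _ = z₂ * (z₁ * c₂) * c₁ := by group
    _ = z₂ * (c₂ * z₁) * c₁ := by rw [e1]
    _ = z₂ * c₂ * (z₁ * c₁) := by group

end

end Cfsg.Agent.H573
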