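import Cfsg.Agent.H573.PCent
import Cfsg.Agent.KFacts.RgdVJ
import Cfsg.Agent.KFacts.RgdSyl
import Cfsg.Agent.FixBN.OfRGD

/-!
# Groups of Lie type in defining characteristic: elements in a unique Sylow subgroup (helper573)

`R : RGD cs h p T n X` a root group datum in the finite group `Y = GG`, `U = ⟨X a : a > 0⟩`, `V_i = ⟨X a : a > 0,
a ≠ α_i⟩`.

* `mem_V_of_conj` : if `x ∈ U` and `g⁻¹ x g ∈ B`, `g ∉ B`, then `x ∈ V_i` for some `i`;
* `exists_regular` : there is `x ∈ U` outside all the `V_i`;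
* `comm_of_pcent` : if all `p`-elements of `Y` are `p`-central, then `U` is abelian.
-/

set_option autoImplicit false
set_option linter.unusedSectionVars false

namespace Cfsg.Agent.H573.DefChar

open CoxeterSystem Cfsg.Agent.ChevalleyStructure.CoxeterGeom Cfsg.Agent.Tits.Roots Cfsg.Agent.Tits.Core
  Cfsg.Agent.Tits.Exchange Cfsg.Agent.Nodes.Reps Cfsg.Agent.Nodes.BNOf Cfsg.Agent.Nodes.BNOf.RGD
  Cfsg.Agent.Nodes.StabComb
  Cfsg.Agent.Nodes.Bruhat Cfsg.Agent.Nodes.OppDec Cfsg.Agent.Nodes.LeviDec Cfsg.Agent.Nodes.NormalForm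
  Cfsg.Agent.Schreier.BNSch

variable {I W Y : Type*} [Fintype I] [DecidableEq I] [Group W] [Group Y] {M : CoxeterMatrix I}
  {cs : CoxeterSystem M W} {A : I → I → ℤ} {h : IsCartan M A} {p : ℕ} {T : Subgroup Y} {n : I → Y}
  {X : (I → ℤ) → Subgroup Y} [Finite W]

/-- `V_i` is normal in `B` -/
theorem conj_V (R : RGD cs h p T n X) (hgen : B cs h T X ⊔ NN cs R.nsys = ⊤) (i : I) {b v : Y}
    (hb : b ∈ B cs h T X) (hv : v ∈ Sup X (PosNe cs h i)) : b * v * b⁻¹ ∈ Sup X (PosNe cs h i) :=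
  (FixBN.OfRGD.node R hgen i).conj_B b hb v hv

/-- the key step: an element of `B` moved into `B` by a representative of `w ≠ 1` is moved into `B` by a simple
reflection -/
theorem exists_simple (R : RGD cs h p T n X) {w : W} (hw : w ≠ 1) {k x : Y} (hk : Rp cs R.nsys w k)
    (hx : x ∈ B cs h T X) (hxk : k⁻¹ * x * k ∈ B cs h T X) : ∃ i, (n i)⁻¹ * x * n i ∈ B cs h T X := by
  obtain ⟨i, hi⟩ := cs.exists_leftDescent_of_ne_one hw
  refine ⟨i, ?_⟩
  have hi' : cs.length (cs.simple i * w) < cs.length w := hi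
  have hlen : cs.length w = 1 + cs.length (cs.simple i * w) := by
    rcases cs.length_simple_mul w i with h1 | h1
    · omega
    · omega
  set w' := cs.simple i * w with hw'
  have hk' : Rp cs R.nsys w' ((n i)⁻¹ * k) := by
    have h1 := (rp_simple cs R.nsys i).inv.mul hk
    rwa [inv_simple] at h1
  set y := (n i)⁻¹ * x * n i with hy
  -- `y ∈ B` or `y` in the cell of the simple reflection
  have hni : Cell R.nsys cs h X (cs.simple i) ((n i)⁻¹) := by
    have h1 := (rp_simple cs R.nsys i).inv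
    rw [inv_simple] at h1
    exact cell_of_rp h1
  have h2 : Cell R.nsys cs h X (cs.simple i) ((n i)⁻¹ * x) := hni.mul_right hx
  have h3 : Cell R.nsys cs h X (cs.simple i) (n i) := cell_of_rp (rp_simple cs R.nsys i)
  rcases Cell.simple_mul R h2 h3 with h4 | ⟨-, h4⟩
  · rw [cs.simple_mul_simple_self] at h4
    obtain ⟨b₁, hb₁, t, ht, b₂, hb₂, e⟩ := h4
    change y = _ at e
    rw [e]
    exact mul_mem (mul_mem hb₁ (T_le_B ht.mem_of_one)) hb₂
  · exfalso
    change Cell R.nsys cs h X (cs.simple i) y at h4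
    have h5 : Cell R.nsys cs h X w' (y * ((n i)⁻¹ * k)) := by
      have e : y * ((n i)⁻¹ * k) = ((n i)⁻¹ * k) * (k⁻¹ * x * k) := by rw [hy]; group
      rw [e]
      exact (cell_of_rp hk').mul_right hxk
    have h6 : Cell R.nsys cs h X (cs.simple i * w') (y * ((n i)⁻¹ * k)) := by
      refine Cell.mul_of_length R ?_ h4 (cell_of_rp hk')
      rw [hw', ← mul_assoc, cs.simple_mul_simple_self, one_mul, cs.length_simple, hlen]
    have h7 := Cell.unique R h5 h6
    rw [hw', ← mul_assoc, cs.simple_mul_simple_self, one_mul] at h7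
    have h8 : cs.length w = cs.length w' := by rw [← h7]
    omega

theorem mem_V_of_conj (R : RGD cs h p T n X) (hgen : B cs h T X ⊔ NN cs R.nsys = ⊤) (hG : GG cs h T X = ⊤)
    {g x : Y} (hx : x ∈ Sup X (Pos cs h)) (hg : g ∉ B cs h T X) (hxg : g⁻¹ * x * g ∈ B cs h T X) :
    ∃ i, x ∈ Sup X (PosNe cs h i) := by
  obtain ⟨w, b₁, hb₁, k, hk, b₂, hb₂, rfl⟩ := (mem_GG R).1 (show g ∈ GG cs h T X by rw [hG]; trivial)
  have hw : w ≠ 1 := by
    rintro rfl
    exact hg (mul_mem (mul_mem hb₁ (T_le_B hk.mem_of_one)) hb₂)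
  have hUB := R.B_le_normalizer_U
  have hx' : b₁⁻¹ * x * b₁ ∈ Sup X (Pos cs h) := by
    have := (Subgroup.mem_normalizer_iff.1 (hUB (inv_mem hb₁)) x).1 hx
    rwa [inv_inv] at this
  have h1 : k⁻¹ * (b₁⁻¹ * x * b₁) * k ∈ B cs h T X := by
    have e : k⁻¹ * (b₁⁻¹ * x * b₁) * k = b₂ * ((b₁ * k * b₂)⁻¹ * x * (b₁ * k * b₂)) * b₂⁻¹ := by group
    rw [e]
    exact mul_mem (mul_mem hb₂ hxg) (inv_mem hb₂)
  obtain ⟨i, hi⟩ := exists_simple R hw hk (U_le_B hx') h1
  refine ⟨i, ?_⟩
  have h2 := (FixBN.OfRGD.node R hgen i).stab _ hx' hi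
  have h3 := conj_V R hgen i hb₁ h2
  have e : b₁ * (b₁⁻¹ * x * b₁) * b₁⁻¹ = x := by group
  rwa [e] at h3

theorem sr_inj {i j : I} (e : (sr i : I → ℤ) = sr j) : i = j := by
  by_contra hij
  have h1 := congrFun e i
  rw [sr_self, sr_ne hij] at h1
  exact absurd h1 (by decide)

/-- a product of elements of the simple root groups, one nontrivial in each -/
theorem exists_regular (R : RGD cs h p T n X) (hgen : B cs h T X ⊔ NN cs R.nsys = ⊤) :
    ∃ x ∈ Sup X (Pos cs h), ∀ i, x ∉ Sup X (PosNe cs h i) := by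
  classical
  have hVU : ∀ i, Sup X (PosNe cs h i) ≤ Sup X (Pos cs h) := fun i => Sup_mono fun z hz => ⟨hz.1, hz.2.1⟩
  have hex : ∀ i, ∃ u ∈ X (sr i), u ∉ Sup X (PosNe cs h i) := by
    intro i
    by_contra hcon
    push Not at hcon
    obtain ⟨u, hu, hu2⟩ := (FixBN.OfRGD.node R hgen i).ne
    apply hu2
    rw [R.Upos_eq i] at hu
    exact (sup_le (show X (sr i) ≤ Sup X (PosNe cs h i) from fun x hx => hcon x hx) le_rfl) hu
  choose u hu hu2 using hex
  -- products over lists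
  have key : ∀ (l : List I), l.Nodup → (l.map u).prod ∈ Sup X (Pos cs h) ∧
      ∀ i, (i ∉ l → (l.map u).prod ∈ Sup X (PosNe cs h i)) ∧ (i ∈ l → (l.map u).prod ∉ Sup X (PosNe cs h i)) := by
    intro l
    induction l with
    | nil =>
      intro _
      refine ⟨by simp [one_mem], fun i => ⟨fun _ => by simp [one_mem], fun hi => absurd hi (by simp)⟩⟩
    | cons j l ih =>
      intro hl
      obtain ⟨h1, h2⟩ := ih hl.of_cons
      have hj : j ∉ l := (List.nodup_cons.1 hl).1
      have hjU : u j ∈ Sup X (Pos cs h) := le_Sup (S := Pos cs h) ⟨isRoot_sr cs h j, sr_nonneg j⟩ (hu j)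
      rw [List.map_cons, List.prod_cons]
      refine ⟨mul_mem hjU h1, fun i => ⟨fun hi => ?_, fun hi => ?_⟩⟩
      · rw [List.mem_cons, not_or] at hi
        refine mul_mem ?_ ((h2 i).1 hi.2)
        exact le_Sup (S := PosNe cs h i) ⟨isRoot_sr cs h j, sr_nonneg j, fun e => hi.1 (sr_inj e).symm⟩ (hu j)
      · intro hmem
        rcases List.mem_cons.1 hi with rfl | hi'
        · apply hu2 i
          have h3 := (h2 i).1 hj
          have h4 := mul_mem hmem (inv_mem h3)
          rwa [mul_inv_cancel_right] at h4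
        · have hij : j ≠ i := by rintro rfl; exact hj hi'
          have h3 : u j ∈ Sup X (PosNe cs h i) :=
            le_Sup (S := PosNe cs h i) ⟨isRoot_sr cs h j, sr_nonneg j, fun e => hij (sr_inj e)⟩ (hu j)
          apply (h2 i).2 hi'
          have h4 := mul_mem (inv_mem h3) hmem
          rwa [inv_mul_cancel_left] at h4
  obtain ⟨h1, h2⟩ := key (Finset.univ : Finset I).toList (Finset.nodup_toList _)
  exact ⟨_, h1, fun i => (h2 i).2 (by simp)⟩

/-- **Groups of Lie type in defining characteristic.** -/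
theorem comm_of_pcent [Finite Y] [Fact p.Prime] (R : RGD cs h p T n X) (hX : GG cs h T X = ⊤)
    (hgen : B cs h T X ⊔ NN cs R.nsys = ⊤)
    (hN : KFacts.RgdCent.NoCent cs h T X)
    (hconn : ∀ J : Set I, J.Nonempty → J ≠ Set.univ → ∃ a ∈ J, ∃ b, b ∉ J ∧ M a b ≠ 2)
    (hc : H573.PCent p Y) (P : Sylow p Y) : IsMulCommutative P := by
  -- `U` is a Sylow subgroup
  have hidx : ¬ p ∣ (Sup X (Pos cs h)).index := by
    have := KFacts.RgdSyl.not_dvd_relIndex R
    rwa [hX, Subgroup.relIndex_top_right] at this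
  let U : Sylow p Y := R.isPGroup_Upos.toSylow hidx
  have hU : (U : Subgroup Y) = Sup X (Pos cs h) := rfl
  -- every element outside all the `V_i` is in the centre of `U`
  have hcen : ∀ x ∈ Sup X (Pos cs h), (∀ i, x ∉ Sup X (PosNe cs h i)) → ∀ y ∈ Sup X (Pos cs h), y * x = x * y := by
    intro x hx hxV
    have hxp : ∃ k : ℕ, orderOf x = p ^ k := by
      obtain ⟨k, hk⟩ := R.isPGroup_Upos ⟨x, hx⟩
      obtain ⟨b, -, hb⟩ := (Nat.dvd_prime_pow Fact.out).1 (orderOf_dvd_of_pow_eq_one hk)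
      exact ⟨b, by rw [← hb, Subgroup.orderOf_mk]⟩
    obtain ⟨g, hg1, hg2⟩ := hc.conj_center U hxp
    have hgB : g ∈ B cs h T X := by
      by_contra hgB
      obtain ⟨i, hi⟩ := mem_V_of_conj R hgen hX hx hgB (U_le_B hg1)
      exact hxV i hi
    intro y hy
    have h1 : g⁻¹ * y * g ∈ Sup X (Pos cs h) := by
      have := (Subgroup.mem_normalizer_iff.1 (R.B_le_normalizer_U (inv_mem hgB)) y).1 hy
      rwa [inv_inv] at this
    have h2 := hg2 _ h1
    have h3 : g * (g⁻¹ * y * g * (g⁻¹ * x * g)) * g⁻¹ = g * (g⁻¹ * x * g * (g⁻¹ * y * g)) * g⁻¹ := by rw [h2]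
    calc y * x = g * (g⁻¹ * y * g * (g⁻¹ * x * g)) * g⁻¹ := by group
      _ = g * (g⁻¹ * x * g * (g⁻¹ * y * g)) * g⁻¹ := h3
      _ = x * y := by group
  -- `U` is abelian
  have hUc : ∀ x ∈ Sup X (Pos cs h), ∀ y ∈ Sup X (Pos cs h), y * x = x * y := by
    by_cases h1 : ∃ i j : I, i ≠ j
    · -- rank at least two
      exfalso
      obtain ⟨i, j, hij⟩ := h1
      obtain ⟨x, hx, hxV⟩ := exists_regular R hgen
      have hJ : ({i} : Set I) ≠ Set.univ := by
        intro e
        have : j ∈ ({i} : Set I) := by rw [e]; trivial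
        exact hij (Set.mem_singleton_iff.1 this).symm
      have hle : VJ cs h X {i} ≤ Sup X (PosNe cs h i) := by
        refine Sup_mono fun z hz => ⟨hz.1, hz.2.1, ?_⟩
        rintro rfl
        obtain ⟨k, hk, hk2⟩ := hz.2.2
        rw [sr_ne (fun e => hk (Set.mem_singleton_iff.2 e))] at hk2
        exact absurd hk2 (lt_irrefl _)
      have hle2 : VJ cs h X {i} ≤ Sup X (Pos cs h) := Sup_mono fun z hz => ⟨hz.1, hz.2.1⟩
      apply hxV i
      apply hle
      refine KFacts.RgdVJ.cent_VJ_le R hN hconn hJ (Subgroup.mem_inf.2 ⟨?_, by rw [hX]; trivial⟩)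
      rw [Subgroup.mem_centralizer_iff]
      intro v hv
      exact hcen x hx hxV v (hle2 hv)
    · push Not at h1
      intro x hx y hy
      by_cases hI : Nonempty I
      · obtain ⟨i⟩ := hI
        by_cases hx1 : ∀ j, x ∉ Sup X (PosNe cs h j)
        · exact hcen x hx hx1 y hy
        · -- `V_i` is trivial
          push Not at hx1
          obtain ⟨j, hj⟩ := hx1
          have h2 : Sup X (PosNe cs h j) = ⊥ := by
            rw [eq_bot_iff]
            refine Sup_le fun z hz => ?_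
            exfalso
            obtain ⟨k, hk, -⟩ := RGD.exists_coeff hz.1 hz.2.1 hz.2.2
            exact hk (h1 k j)
          rw [h2, Subgroup.mem_bot] at hj
          rw [hj, mul_one, one_mul]
      · have h2 : Sup X (Pos cs h) = ⊥ := by
          rw [eq_bot_iff]
          refine Sup_le fun z hz => ?_
          obtain ⟨w, i, -⟩ := hz.1
          exact absurd ⟨i⟩ hI
        rw [h2, Subgroup.mem_bot] at hx hy
        rw [hx, hy]
  -- all Sylow subgroups
  have hUab : IsMulCommutative U := ⟨⟨fun a b => Subtype.ext (hUc b b.2 a a.2)⟩⟩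
  obtain ⟨e⟩ : Nonempty (P ≃* U) := ⟨P.equiv U⟩
  exact ⟨⟨fun a b => e.injective (by rw [map_mul, map_mul, hUab.is_comm.comm])⟩⟩

end Cfsg.Agent.H573.DefChar
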