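import Cfsg.Agent.H776.ThCtx

/-!
# Automorphisms of the Sylow 3-subgroup of `Th` which fix or invert the second centre (helper573, for helper776)
-/

set_option autoImplicit false
set_option linter.style.longLine false

namespace Cfsg.Agent.H573.ThSigns

open Subgroup Cfsg.Agent.H776.ThS

theorem mem_N5_of_Z2 {n : P} (h : n ∈ Z2) : n ∈ N5 := ⟨h.1, h.2.1, h.2.2.1, h.2.2.2.1, h.2.2.2.2.1⟩
theorem mem_N5_of_Z3 {n : P} (h : n ∈ Z3) : n ∈ N5 := ⟨h.1, h.2.1, h.2.2.1, h.2.2.2.1, h.2.2.2.2.1⟩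
theorem mem_N5_of_Z4 {n : P} (h : n ∈ Z4) : n ∈ N5 := ⟨h.1, h.2.1, h.2.2.1, h.2.2.2.1, h.2.2.2.2.1⟩

/-- an element of `N5` -/
def n5 (p q r a b : ZMod 3) : P := ⟨0, 0, 0, 0, 0, p, q, r, a, b⟩

/-- an element of `Z2` -/
def z2 (a b : ZMod 3) : P := ⟨0, 0, 0, 0, 0, 0, 0, 0, a, b⟩

theorem z2_mem (a b : ZMod 3) : z2 a b ∈ Z2 := ⟨rfl, rfl, rfl, rfl, rfl, rfl, rfl, rfl⟩

theorem eq_z2 {n : P} (h : n ∈ Z2) : n = z2 n.x9 n.x10 := by
  obtain ⟨h1, h2, h3, h4, h5, h6, h7, h8⟩ := h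
  apply V.ext <;> first | assumption | rfl

theorem u6_mem : u6 ∈ N5 := ⟨rfl, rfl, rfl, rfl, rfl⟩
theorem u7_mem : u7 ∈ N5 := ⟨rfl, rfl, rfl, rfl, rfl⟩
theorem u8_mem : u8 ∈ N5 := ⟨rfl, rfl, rfl, rfl, rfl⟩

theorem u2_x1 : u2.x1 = 0 := rfl
theorem u2_x2 : u2.x2 = 1 := rfl
theorem u2_x3 : u2.x3 = 0 := rfl
theorem u2_x4 : u2.x4 = 0 := rfl
theorem u2_x5 : u2.x5 = 0 := rfl
theorem u2_x6 : u2.x6 = 0 := rfl
theorem u2_x7 : u2.x7 = 0 := rfl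
theorem u2_x8 : u2.x8 = 0 := rfl
theorem u2_x9 : u2.x9 = 0 := rfl
theorem u2_x10 : u2.x10 = 0 := rfl
theorem u3_x1 : u3.x1 = 0 := rfl
theorem u3_x2 : u3.x2 = 0 := rfl
theorem u3_x3 : u3.x3 = 1 := rfl
theorem u3_x4 : u3.x4 = 0 := rfl
theorem u3_x5 : u3.x5 = 0 := rfl
theorem u3_x6 : u3.x6 = 0 := rfl
theorem u3_x7 : u3.x7 = 0 := rfl
theorem u3_x8 : u3.x8 = 0 := rfl
theorem u3_x9 : u3.x9 = 0 := rfl
theorem u3_x10 : u3.x10 = 0 := rfl
theorem u4_x1 : u4.x1 = 0 := rfl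
theorem u4_x2 : u4.x2 = 0 := rfl
theorem u4_x3 : u4.x3 = 0 := rfl
theorem u4_x4 : u4.x4 = 1 := rfl
theorem u4_x5 : u4.x5 = 0 := rfl
theorem u4_x6 : u4.x6 = 0 := rfl
theorem u4_x7 : u4.x7 = 0 := rfl
theorem u4_x8 : u4.x8 = 0 := rfl
theorem u4_x9 : u4.x9 = 0 := rfl
theorem u4_x10 : u4.x10 = 0 := rfl
theorem u5_x1 : u5.x1 = 0 := rfl
theorem u5_x2 : u5.x2 = 0 := rfl
theorem u5_x3 : u5.x3 = 0 := rfl
theorem u5_x4 : u5.x4 = 0 := rfl
theorem u5_x5 : u5.x5 = 1 := rfl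
theorem u5_x6 : u5.x6 = 0 := rfl
theorem u5_x7 : u5.x7 = 0 := rfl
theorem u5_x8 : u5.x8 = 0 := rfl
theorem u5_x9 : u5.x9 = 0 := rfl
theorem u5_x10 : u5.x10 = 0 := rfl
theorem u6_x1 : u6.x1 = 0 := rfl
theorem u6_x2 : u6.x2 = 0 := rfl
theorem u6_x3 : u6.x3 = 0 := rfl
theorem u6_x4 : u6.x4 = 0 := rfl
theorem u6_x5 : u6.x5 = 0 := rfl
theorem u6_x6 : u6.x6 = 1 := rfl
theorem u6_x7 : u6.x7 = 0 := rfl
theorem u6_x8 : u6.x8 = 0 := rfl
theorem u6_x9 : u6.x9 = 0 := rfl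
theorem u6_x10 : u6.x10 = 0 := rfl
theorem u7_x1 : u7.x1 = 0 := rfl
theorem u7_x2 : u7.x2 = 0 := rfl
theorem u7_x3 : u7.x3 = 0 := rfl
theorem u7_x4 : u7.x4 = 0 := rfl
theorem u7_x5 : u7.x5 = 0 := rfl
theorem u7_x6 : u7.x6 = 0 := rfl
theorem u7_x7 : u7.x7 = 1 := rfl
theorem u7_x8 : u7.x8 = 0 := rfl
theorem u7_x9 : u7.x9 = 0 := rfl
theorem u7_x10 : u7.x10 = 0 := rfl
theorem u8_x1 : u8.x1 = 0 := rfl
theorem u8_x2 : u8.x2 = 0 := rfl
theorem u8_x3 : u8.x3 = 0 := rfl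
theorem u8_x4 : u8.x4 = 0 := rfl
theorem u8_x5 : u8.x5 = 0 := rfl
theorem u8_x6 : u8.x6 = 0 := rfl
theorem u8_x7 : u8.x7 = 0 := rfl
theorem u8_x8 : u8.x8 = 1 := rfl
theorem u8_x9 : u8.x9 = 0 := rfl
theorem u8_x10 : u8.x10 = 0 := rfl

/-- powers in `N5` -/
theorem powN {n : P} (hn : n ∈ N5) (k : ℕ) : n ^ k = n5 (k * n.x6) (k * n.x7) (k * n.x8) (k * n.x9) (k * n.x10) := by
  induction k with
  | zero => rw [pow_zero]; apply V.ext <;> simp [n5, one_x1, one_x2, one_x3, one_x4, one_x5, one_x6, one_x7, one_x8, one_x9, one_x10]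
  | succ k ih =>
    rw [pow_succ, ih, mulN _ _ hn]
    apply V.ext <;> simp [n5] <;> ring

/-- multiples in `ZMod 3` -/
theorem val_cast (a : ZMod 3) : ((a.val : ℕ) : ZMod 3) = a := by revert a; decide

theorem decomp {n : P} (hn : n ∈ N5) : n = u6 ^ n.x6.val * (u7 ^ n.x7.val * (u8 ^ n.x8.val * z2 n.x9 n.x10)) := by
  obtain ⟨h1, h2, h3, h4, h5⟩ := hn
  rw [mulN _ _ (mul_mem (pow_mem u7_mem _) (mul_mem (pow_mem u8_mem _) (mem_N5_of_Z2 (z2_mem _ _)))),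
    mulN _ _ (mul_mem (pow_mem u8_mem _) (mem_N5_of_Z2 (z2_mem _ _))), mulN _ _ (mem_N5_of_Z2 (z2_mem _ _)),
    powN u6_mem, powN u7_mem, powN u8_mem, val_cast, val_cast, val_cast]
  apply V.ext <;> simp [n5, z2, u6, u7, u8, h1, h2, h3, h4, h5]

/-- the hypotheses -/
structure Hyp (g : P → P) (δ : ZMod 3) : Prop where
  mul : ∀ x y, g (x * y) = g x * g y
  surj : Function.Surjective g
  ne : δ ≠ 0
  z : ∀ a b, g (z2 a b) = z2 (δ * a) (δ * b)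

variable {g : P → P} {δ : ZMod 3}

/-- coordinates of `w` commuting with `u1` and `u2` modulo `N`: -/
theorem coords {w n m : P} (hn : n ∈ N5) (hm : m ∈ N5) (e1 : w * u1 = u1 * w * n) (e2 : w * u2 = u2 * w * m) :
    w.x1 = 0 ∧ w.x2 = 0 ∧ w.x3 = 0 ∧ w.x5 = m.x6 ∧ w.x4 = -m.x7 ∧ w.x6 = n.x7 ∧ w.x7 = w.x6 - n.x8 := by
  rw [mulN _ _ hn] at e1
  rw [mulN _ _ hm] at e2
  have a3 : (w * u1).x3 = (u1 * w).x3 := by rw [e1]
  have a4 : (w * u1).x4 = (u1 * w).x4 := by rw [e1]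
  have a7 : (w * u1).x7 = (u1 * w).x7 + n.x7 := by rw [e1]
  have a8 : (w * u1).x8 = (u1 * w).x8 + n.x8 := by rw [e1]
  have b3 : (w * u2).x3 = (u2 * w).x3 := by rw [e2]
  have b6 : (w * u2).x6 = (u2 * w).x6 + m.x6 := by rw [e2]
  have b7 : (w * u2).x7 = (u2 * w).x7 + m.x7 := by rw [e2]
  simp only [mul_x3, mul_x4, mul_x6, mul_x7, mul_x8, u1, u2] at a3 a4 a7 a8 b3 b6 b7
  have c2 : w.x2 = 0 := by linear_combination a3
  have c1 : w.x1 = 0 := by linear_combination -b3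
  rw [c2] at a4 a7 a8 b6 b7
  rw [c1] at a8 b6 b7
  have c3 : w.x3 = 0 := by linear_combination -a4
  rw [c3] at a7 a8 b7
  refine ⟨c1, c2, c3, ?_, ?_, ?_, ?_⟩
  · linear_combination b6
  · linear_combination -b7
  · linear_combination a7
  · linear_combination -a8

/-- the commutator of `c` and `x` -/
theorem cx_split (c x : P) (hc : c ∈ N5) : cx c x = c * n5 0 (x.x1 * c.x6) (- x.x1 * c.x7 + x.x1 ^ 2 * c.x6)
  ((cx c x).x9 - c.x9) ((cx c x).x10 - c.x10) := by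
  rw [mulN _ _ ⟨rfl, rfl, rfl, rfl, rfl⟩]
  obtain ⟨h1, h2, h3, h4, h5⟩ := hc
  apply V.ext <;> simp [n5, cx, h1, h2, h3, h4, h5]
  ring

theorem Hyp.one (H : Hyp g δ) : g 1 = 1 := by
  have h1 := H.mul 1 1
  rw [mul_one] at h1
  exact left_eq_mul.1 h1

theorem Hyp.pow (H : Hyp g δ) (x : P) (n : ℕ) : g (x ^ n) = g x ^ n := by
  induction n with
  | zero => rw [pow_zero, pow_zero, H.one]
  | succ n ih => rw [pow_succ, pow_succ, H.mul, ih]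

theorem Hyp.cx (H : Hyp g δ) {c x : P} (hc : c ∈ N5) (hgc : g c ∈ N5) : g (cx c x) = cx (g c) (g x) := by
  have h := congrArg g (N5_mul c x hc)
  rw [H.mul, H.mul, N5_mul _ _ hgc] at h
  exact (mul_left_cancel h).symm

/-- the first coordinate -/
theorem Hyp.x1 (H : Hyp g δ) (x : P) : (g x).x1 = x.x1 := by
  have h1 := H.cx (c := z2 1 0) (x := x) (mem_N5_of_Z2 (z2_mem _ _)) (by rw [H.z]; exact mem_N5_of_Z2 (z2_mem _ _))
  have h2 : Cfsg.Agent.H776.ThS.cx (z2 1 0) x = z2 1 x.x1 := by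
    apply V.ext <;> simp [Cfsg.Agent.H776.ThS.cx, z2]
  rw [h2, H.z, H.z] at h1
  have h3 := congrArg V.x10 h1
  have h4 : δ * x.x1 = δ * (g x).x1 := by
    simpa [Cfsg.Agent.H776.ThS.cx, z2, mul_comm] using h3
  exact (mul_left_cancel₀ H.ne h4).symm

/-- `w = g c` and its commutators -/
theorem Hyp.comm (H : Hyp g δ) {c : P} (hc : c ∈ N5) (y : P) : ∃ x, x.x1 = y.x1 ∧ g x = y ∧ g c * y = y * g c *
    g (n5 0 (x.x1 * c.x6) (- x.x1 * c.x7 + x.x1 ^ 2 * c.x6) ((Cfsg.Agent.H776.ThS.cx c x).x9 - c.x9)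
      ((Cfsg.Agent.H776.ThS.cx c x).x10 - c.x10)) := by
  obtain ⟨x, rfl⟩ := H.surj y
  refine ⟨x, (H.x1 x).symm, rfl, ?_⟩
  rw [mul_assoc, ← H.mul, ← H.mul, ← H.mul, ← cx_split c x hc, N5_mul c x hc]

theorem n5_z2 (a b : ZMod 3) : n5 0 0 0 a b = z2 a b := rfl

theorem Hyp.u8_mem (H : Hyp g δ) : g u8 ∈ Z3 := by
  obtain ⟨x, -, -, e1⟩ := H.comm ThSigns.u8_mem u1
  obtain ⟨y, -, -, e2⟩ := H.comm ThSigns.u8_mem u2
  have a1 : u8.x6 = 0 := rfl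
  have a2 : u8.x7 = 0 := rfl
  rw [a1, a2, mul_zero, mul_zero, mul_zero, add_zero, n5_z2, H.z] at e1 e2
  obtain ⟨h1, h2, h3, h4, h5, h6, h7⟩ := coords (mem_N5_of_Z2 (z2_mem _ _)) (mem_N5_of_Z2 (z2_mem _ _)) e1 e2
  simp only [z2, neg_zero] at h4 h5 h6 h7
  exact ⟨h1, h2, h3, h5, h4, h6, by rw [h7, h6, sub_zero]⟩

/-- `g` on `Z3` -/
theorem Hyp.z3 (H : Hyp g δ) (c a b : ZMod 3) : g (n5 0 0 c a b) = n5 0 0 (c * (g u8).x8)
    (c * (g u8).x9 + δ * a) (c * (g u8).x10 + δ * b) := by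
  have hu := H.u8_mem
  have hN := mem_N5_of_Z3 hu
  obtain ⟨-, -, -, -, -, h6, h7⟩ := hu
  rw [decomp (n := n5 0 0 c a b) ⟨rfl, rfl, rfl, rfl, rfl⟩]
  simp only [n5, ZMod.val_zero, pow_zero, one_mul]
  rw [H.mul, H.pow, H.z, powN hN, mulN _ _ (mem_N5_of_Z2 (z2_mem _ _)), val_cast]
  apply V.ext <;> simp [n5, z2, h6, h7]

theorem Hyp.u7_mem (H : Hyp g δ) : g u7 ∈ Z4 := by
  obtain ⟨x, -, -, e1⟩ := H.comm ThSigns.u7_mem u1
  obtain ⟨y, -, -, e2⟩ := H.comm ThSigns.u7_mem u2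
  have a1 : u7.x6 = 0 := rfl
  rw [a1, mul_zero, H.z3] at e1 e2
  obtain ⟨h1, h2, h3, h4, h5, h6, h7⟩ := coords ⟨rfl, rfl, rfl, rfl, rfl⟩ ⟨rfl, rfl, rfl, rfl, rfl⟩ e1 e2
  simp only [n5, neg_zero] at h4 h5 h6 h7
  exact ⟨h1, h2, h3, h5, h4, h6⟩

/-- `g` on `Z4` -/
theorem Hyp.z4 (H : Hyp g δ) (d c a b : ZMod 3) : g (n5 0 d c a b) = n5 0 (d * (g u7).x7)
    (d * (g u7).x8 + c * (g u8).x8) (d * (g u7).x9 + c * (g u8).x9 + δ * a)
    (d * (g u7).x10 + c * (g u8).x10 + δ * b) := by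
  have hu := H.u7_mem
  have hN := mem_N5_of_Z4 hu
  obtain ⟨-, -, -, -, -, h6⟩ := hu
  have e : n5 0 d c a b = u7 ^ d.val * n5 0 0 c a b := by
    rw [powN ThSigns.u7_mem, mulN _ _ ⟨rfl, rfl, rfl, rfl, rfl⟩, val_cast]
    apply V.ext <;> simp [n5, u7]
  rw [e, H.mul, H.pow, H.z3, powN hN, mulN _ _ ⟨rfl, rfl, rfl, rfl, rfl⟩, val_cast]
  apply V.ext <;> simp [n5, h6]
  all_goals ring

theorem Hyp.u6_mem (H : Hyp g δ) : g u6 ∈ N5 := by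
  obtain ⟨x, -, -, e1⟩ := H.comm ThSigns.u6_mem u1
  obtain ⟨y, hy, -, e2⟩ := H.comm ThSigns.u6_mem u2
  have a1 : u6.x6 = 1 := rfl
  have a2 : u6.x7 = 0 := rfl
  have a3 : u2.x1 = 0 := rfl
  rw [a3] at hy
  rw [hy] at e2
  rw [H.z4] at e1 e2
  obtain ⟨h1, h2, h3, h4, h5, h6, h7⟩ := coords ⟨rfl, rfl, rfl, rfl, rfl⟩ ⟨rfl, rfl, rfl, rfl, rfl⟩ e1 e2
  simp only [n5, zero_mul, neg_zero] at h4 h5 h6 h7
  exact ⟨h1, h2, h3, h5, h4⟩

/-- `g` on `N5` -/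
theorem Hyp.n5 (H : Hyp g δ) (p d c a b : ZMod 3) : g (n5 p d c a b) = ThSigns.n5 (p * (g u6).x6)
    (p * (g u6).x7 + d * (g u7).x7)
    (p * (g u6).x8 + d * (g u7).x8 + c * (g u8).x8) (p * (g u6).x9 + d * (g u7).x9 + c * (g u8).x9 + δ * a)
    (p * (g u6).x10 + d * (g u7).x10 + c * (g u8).x10 + δ * b) := by
  have hu := H.u6_mem
  have e : ThSigns.n5 p d c a b = u6 ^ p.val * ThSigns.n5 0 d c a b := by
    rw [powN ThSigns.u6_mem, mulN _ _ ⟨rfl, rfl, rfl, rfl, rfl⟩, val_cast]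
    apply V.ext <;> simp [ThSigns.n5, u6]
  rw [e, H.mul, H.pow, H.z4, powN hu, mulN _ _ ⟨rfl, rfl, rfl, rfl, rfl⟩, val_cast]
  apply V.ext <;> simp [ThSigns.n5]
  all_goals ring

theorem eq_n5 {n : P} (h : n ∈ N5) : n = n5 n.x6 n.x7 n.x8 n.x9 n.x10 := by
  obtain ⟨h1, h2, h3, h4, h5⟩ := h
  apply V.ext <;> first | assumption | rfl

/-- relations from `u8` -/
theorem Hyp.r8 (H : Hyp g δ) (x : P) : (g x).x2 * (g u8).x8 = δ * x.x2 ∧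
    (g x).x3 * (g u8).x8 = δ * x.x3 + x.x1 * (g u8).x9 := by
  have hu := H.u8_mem
  have h := H.cx (c := u8) (x := x) ThSigns.u8_mem (mem_N5_of_Z3 hu)
  rw [eq_n5 (cx_mem u8 x), H.n5] at h
  have h9 := congrArg V.x9 h
  have h10 := congrArg V.x10 h
  have hx := H.x1 x
  obtain ⟨-, -, -, -, -, h6, h7⟩ := hu
  simp only [Cfsg.Agent.H776.ThS.cx, ThSigns.n5] at h9 h10
  rw [h6, h7, hx] at h9 h10
  simp only [u8_x6, u8_x7, u8_x8, u8_x9, u8_x10] at h9 h10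
  constructor
  · linear_combination h9
  · linear_combination h10

/-- relations from `u7` -/
theorem Hyp.r7 (H : Hyp g δ) (x : P) (hx : x.x1 = 0) : δ * x.x3 = (g x).x3 * (g u7).x7 + (g x).x2 * (g u7).x8 ∧
    δ * (x.x2 - x.x4) = - (g x).x4 * (g u7).x7 - (g x).x3 * (g u7).x8 + (g x).x2 * (g u7).x7 := by
  have hu := H.u7_mem
  have h := H.cx (c := u7) (x := x) ThSigns.u7_mem (mem_N5_of_Z4 hu)
  rw [eq_n5 (cx_mem u7 x), H.n5] at h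
  have h9 := congrArg V.x9 h
  have h10 := congrArg V.x10 h
  have hx := H.x1 x
  obtain ⟨-, -, -, -, -, h6⟩ := hu
  simp only [Cfsg.Agent.H776.ThS.cx, ThSigns.n5] at h9 h10
  rw [h6, hx] at h9 h10
  simp only [u7_x6, u7_x7, u7_x8, u7_x9, u7_x10] at h9 h10
  simp only [‹x.x1 = 0›] at h9 h10
  constructor
  · linear_combination -h9
  · linear_combination h10

/-- relations from `u6` -/
theorem Hyp.r6 (H : Hyp g δ) (x : P) (hx : x.x1 = 0) : δ * (x.x2 - x.x4) = - (g x).x4 * (g u6).x6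
    - (g x).x3 * (g u6).x7 - (g x).x2 * (g u6).x8 + (g x).x2 * (g u6).x6 ∧
    δ * (x.x5 + x.x3) = (g x).x5 * (g u6).x6 - (g x).x4 * (g u6).x7 - (g x).x3 * (g u6).x8
      + (g x).x3 * (g u6).x6 + (g x).x2 * (g u6).x7 := by
  have hu := H.u6_mem
  have h := H.cx (c := u6) (x := x) ThSigns.u6_mem hu
  rw [eq_n5 (cx_mem u6 x), H.n5] at h
  have h9 := congrArg V.x9 h
  have h10 := congrArg V.x10 h
  have hx := H.x1 x
  simp only [Cfsg.Agent.H776.ThS.cx, ThSigns.n5] at h9 h10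
  rw [hx] at h9 h10
  simp only [u6_x6, u6_x7, u6_x8, u6_x9, u6_x10] at h9 h10
  simp only [‹x.x1 = 0›] at h9 h10
  constructor
  · linear_combination h9
  · linear_combination h10

theorem sq_one {e : ZMod 3} (h : e ≠ 0) : e * e = 1 := by
  revert e; decide

/-- the coefficients -/
theorem Hyp.coef (H : Hyp g δ) : (g u8).x8 = 1 ∧ (g u7).x7 = 1 ∧ (g u7).x8 = 0 ∧ (g u6).x6 = 1 ∧ (g u6).x7 = 0 ∧
    (g u6).x8 = 0 ∧ ∀ x : P, x.x1 = 0 → (g x).x2 = δ * x.x2 ∧ (g x).x3 = δ * x.x3 ∧ (g x).x4 = δ * x.x4 ∧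
      (g x).x5 = δ * x.x5 := by
  have hδ := sq_one H.ne
  have he : (g u8).x8 ≠ 0 := by
    intro h
    have h1 := (H.r8 u2).1
    rw [h, mul_zero] at h1
    simp only [u2_x2, mul_one] at h1
    exact H.ne h1.symm
  have hee := sq_one he
  set e := (g u8).x8 with e_def
  have g2 : ∀ x : P, (g x).x2 = δ * e * x.x2 := fun x => by
    have h1 := (H.r8 x).1
    linear_combination e * h1 - (g x).x2 * hee
  have g3 : ∀ x : P, x.x1 = 0 → (g x).x3 = δ * e * x.x3 := fun x hx => by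
    have h1 := (H.r8 x).2
    rw [hx] at h1
    linear_combination e * h1 - (g x).x3 * hee
  -- u7
  have c8 : (g u7).x8 = 0 := by
    have h1 := (H.r7 u2 rfl).1
    rw [g2, g3 _ rfl] at h1
    simp only [u2_x2, u2_x3] at h1
    linear_combination -e * δ * h1 - (g u7).x8 * δ * δ * hee - (g u7).x8 * hδ
  have f1 : (g u7).x7 = e := by
    have h1 := (H.r7 u3 rfl).1
    rw [g2, g3 _ rfl] at h1
    simp only [u3_x2, u3_x3] at h1
    linear_combination -e * δ * h1 - (g u7).x7 * δ * δ * hee + (e - (g u7).x7) * hδ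
  have g4 : ∀ x : P, x.x1 = 0 → (g x).x4 = δ * e * x.x4 := fun x hx => by
    have h1 := (H.r7 x hx).2
    rw [f1, c8, g2] at h1
    linear_combination e * h1 + (δ * e * x.x2 - (g x).x4) * hee
  -- u6
  have r4 := (H.r6 u4 rfl).1
  have r3 := (H.r6 u3 rfl).1
  have r2 := (H.r6 u2 rfl).1
  rw [g2, g3 _ rfl, g4 _ rfl] at r4 r3 r2
  simp only [u4_x2, u4_x3, u4_x4, u3_x2, u3_x3, u3_x4, u2_x2, u2_x3, u2_x4] at r4 r3 r2
  have h1 : (g u6).x6 = e := by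
    linear_combination e * δ * r4 - (g u6).x6 * δ * δ * hee + (e - (g u6).x6) * hδ
  have a7 : (g u6).x7 = 0 := by
    linear_combination e * δ * r3 - (g u6).x7 * δ * δ * hee - (g u6).x7 * hδ
  have a8 : (g u6).x8 = 0 := by
    rw [h1] at r2
    linear_combination e * δ * r2 - ((g u6).x8 - e) * δ * δ * hee - (g u6).x8 * hδ
  have g5 : ∀ x : P, x.x1 = 0 → (g x).x5 = δ * e * x.x5 := fun x hx => by
    have h2 := (H.r6 x hx).2
    rw [h1, a7, a8, g3 x hx] at h2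
    linear_combination - e * h2 - (δ * e * x.x3 + (g x).x5) * hee
  have e1 : e = 1 := by
    have hc := congrArg g (E1_mul u5 u2 rfl rfl)
    rw [H.mul, H.mul, H.mul, E1_mul (g u5) (g u2) (H.x1 _) (H.x1 _)] at hc
    have hc' := mul_left_cancel hc
    rw [eq_n5 (ce_mem u5 u2), H.n5, h1] at hc'
    have h6 := congrArg V.x6 hc'
    simp only [ce, ThSigns.n5] at h6
    rw [g2, g2, g5 _ rfl, g5 _ rfl] at h6
    simp only [u5_x2, u5_x5, u2_x2, u2_x5] at h6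
    linear_combination -h6 + δ * δ * hee + hδ
  rw [e1] at g2 g3 g4 g5 h1 f1
  refine ⟨e1, f1, c8, h1, a7, a8, fun x hx => ⟨?_, ?_, ?_, ?_⟩⟩
  · rw [g2, mul_one]
  · rw [g3 x hx, mul_one]
  · rw [g4 x hx, mul_one]
  · rw [g5 x hx, mul_one]

/-- an automorphism of order prime to 3 fixing `C` and an element modulo `C` -/
theorem fix_of {γ : P ≃* P} {m : ℕ} (hm : Nat.Coprime m 3) (h1 : γ ^ m = 1) (C : Subgroup P) (hC : ∀ c ∈ C, γ c = c)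
    {x : P} (hx : x⁻¹ * γ x ∈ C) : γ x = x := by
  set c := x⁻¹ * γ x with c_def
  have e : γ x = x * c := by rw [c_def, mul_inv_cancel_left]
  have hk : ∀ k : ℕ, (γ ^ k) x = x * c ^ k := fun k => by
    induction k with
    | zero => simp
    | succ k ih => rw [pow_succ', MulAut.mul_apply, ih, map_mul, e, map_pow, hC c hx, mul_assoc, ← pow_succ']
  have h2 := hk m
  rw [h1, MulAut.one_apply, left_eq_mul] at h2
  have h3 : c = 1 := by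
    have ho := orderOf_dvd_of_pow_eq_one h2
    have ho' := orderOf_dvd_of_pow_eq_one (pow3_10 c)
    have h4 := Nat.dvd_gcd ho ho'
    rw [Nat.Coprime.gcd_eq_one (Nat.Coprime.pow_right _ hm), Nat.dvd_one] at h4
    exact orderOf_eq_one_iff.1 h4
  rw [e, h3, mul_one]

/-- an automorphism of order prime to 3 fixing the second centre is trivial -/
theorem eq_one_of {γ : P ≃* P} {m : ℕ} (hm : Nat.Coprime m 3) (h1 : γ ^ m = 1) (hZ : ∀ x ∈ Z2, γ x = x) (x : P) :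
    γ x = x := by
  have H : Hyp γ 1 := ⟨fun x y => map_mul γ x y, γ.surjective, one_ne_zero, fun a b => by
    rw [hZ _ (z2_mem _ _), one_mul, one_mul]⟩
  obtain ⟨e, f, c8, h, a7, a8, hE⟩ := H.coef
  have inZ2 : ∀ {u w : P}, u ∈ N5 → w ∈ N5 → w.x6 = u.x6 → w.x7 = u.x7 → w.x8 = u.x8 → u⁻¹ * w ∈ Z2 := by
    intro u w hu hw h6 h7 h8
    have h' : w = u * z2 (w.x9 - u.x9) (w.x10 - u.x10) := by
      rw [mulN _ _ (mem_N5_of_Z2 (z2_mem _ _))]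
      obtain ⟨a1, a2, a3, a4, a5⟩ := hu
      obtain ⟨b1, b2, b3, b4, b5⟩ := hw
      apply V.ext <;> simp [z2, *]
    rw [h', inv_mul_cancel_left]
    exact z2_mem _ _
  have hu8 := H.u8_mem
  have hu7 := H.u7_mem
  have hu6 := H.u6_mem
  have k8 : γ u8 = u8 := fix_of hm h1 Z2 hZ (inZ2 u8_mem (mem_N5_of_Z3 hu8) hu8.2.2.2.2.2.1 hu8.2.2.2.2.2.2 e)
  have k7 : γ u7 = u7 := fix_of hm h1 Z2 hZ (inZ2 u7_mem (mem_N5_of_Z4 hu7) hu7.2.2.2.2.2 f c8)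
  have k6 : γ u6 = u6 := fix_of hm h1 Z2 hZ (inZ2 u6_mem hu6 h a7 a8)
  have kN : ∀ n ∈ N5, γ n = n := fun n hn => by
    conv_lhs => rw [decomp hn]
    rw [map_mul, map_mul, map_mul, map_pow, map_pow, map_pow, k6, k7, k8, hZ _ (z2_mem _ _), ← decomp hn]
  have kE : ∀ x ∈ E1, γ x = x := fun x hx => by
    obtain ⟨e2, e3, e4, e5⟩ := hE x hx
    rw [one_mul] at e2 e3 e4 e5
    apply fix_of hm h1 N5 kN
    rw [exists_N5 (γ x) x (H.x1 x) e2 e3 e4 e5, inv_mul_cancel_left]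
    exact ⟨rfl, rfl, rfl, rfl, rfl⟩
  apply fix_of hm h1 E1 kE
  show (x⁻¹ * γ x).x1 = 0
  have h3 := mul_x1 x (x⁻¹ * γ x)
  rw [mul_inv_cancel_left, H.x1 x] at h3
  exact left_eq_add.1 h3

/-- an automorphism fixing the second centre is a 3-element -/
theorem signs_one (g : P → P) (hm : ∀ x y, g (x * y) = g x * g y) (hi : Function.Injective g)
    (hZ : ∀ x ∈ Z2, g x = x) : ∃ k : ℕ, ∀ x, g^[3 ^ k] x = x := by
  let γ : P ≃* P := MulEquiv.ofBijective (MonoidHom.mk' g hm) (Finite.injective_iff_bijective.1 hi)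
  have hγ : ∀ x, γ x = g x := fun x => rfl
  obtain ⟨k, m, hm3, ho⟩ := Nat.exists_eq_pow_mul_and_not_dvd (orderOf_pos γ).ne' 3 (by norm_num)
  refine ⟨k, fun x => ?_⟩
  have hpow : ∀ n : ℕ, ∀ y, (γ ^ n) y = g^[n] y := fun n => by
    induction n with
    | zero => intro y; simp
    | succ n ih => intro y; rw [pow_succ', MulAut.mul_apply, ih, Function.iterate_succ_apply', hγ]
  rw [← hpow]
  apply eq_one_of (m := m) (γ := γ ^ 3 ^ k) ((Nat.Prime.coprime_iff_not_dvd Nat.prime_three).2 hm3).symm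
  · rw [← pow_mul, ← ho, pow_orderOf_eq_one]
  · intro y hy
    rw [hpow]
    exact Function.iterate_fixed (hZ y hy) _

/-- an automorphism inverting the second centre acts as `-1` on `E1 / N5` -/
theorem signs_neg (g : P → P) (hm : ∀ x y, g (x * y) = g x * g y) (hi : Function.Injective g)
    (hZ : ∀ x ∈ Z2, g x = x⁻¹) :
    (∀ x ∈ E1, g x * x ∈ Z6) ∧ (∀ x ∈ Z6, g x * x ∈ Y7) ∧ (∀ x ∈ Y7, g x * x ∈ X6) ∧ (∀ x ∈ X6, g x * x ∈ N5) := by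
  have hz2 : ∀ a b : ZMod 3, (z2 a b)⁻¹ = z2 (-a) (-b) := fun a b => by
    rw [inv_eq_iff_mul_eq_one, mulN _ _ (mem_N5_of_Z2 (z2_mem _ _))]
    apply V.ext <;> simp [z2, one_x1, one_x2, one_x3, one_x4, one_x5, one_x6, one_x7, one_x8, one_x9, one_x10]
  have H : Hyp g (-1) := ⟨hm, (Finite.injective_iff_bijective.1 hi).2, by decide, fun a b => by
    rw [hZ _ (z2_mem _ _), hz2, neg_one_mul, neg_one_mul]⟩
  obtain ⟨-, -, -, -, -, -, hE⟩ := H.coef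
  refine ⟨fun x hx => ?_, fun x hx => ?_, fun x hx => ?_, fun x hx => ?_⟩
  · rw [mem_E1] at hx
    obtain ⟨e2, e3, e4, e5⟩ := hE x hx
    have e1 := H.x1 x
    rw [mem_Z6, mul_x1, mul_x2, e1, e2, hx]
    constructor <;> ring
  · obtain ⟨h1, h2⟩ := hx
    obtain ⟨e2, e3, e4, e5⟩ := hE x h1
    have e1 := H.x1 x
    rw [mem_Y7, mul_x1, mul_x2, mul_x3, e1, e2, e3, h1, h2]
    refine ⟨?_, ?_, ?_⟩ <;> ring
  · obtain ⟨h1, h2, h3⟩ := hx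
    obtain ⟨e2, e3, e4, e5⟩ := hE x h1
    have e1 := H.x1 x
    rw [mem_X6, mul_x1, mul_x2, mul_x3, mul_x4, e1, e2, e3, e4, h1, h2, h3]
    refine ⟨?_, ?_, ?_, ?_⟩ <;> ring
  · obtain ⟨h1, h2, h3, h4⟩ := hx
    obtain ⟨e2, e3, e4, e5⟩ := hE x h1
    have e1 := H.x1 x
    rw [mem_N5, mul_x1, mul_x2, mul_x3, mul_x4, mul_x5, e1, e2, e3, e4, e5, h1, h2, h3, h4]
    refine ⟨?_, ?_, ?_, ?_, ?_⟩ <;> ring

end Cfsg.Agent.H573.ThSigns
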